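import Mathlib
import Cfsg.Agent.Regular.PolySeq

/-!
Mann's bound for the order of a `p`-group of given derived length.
-/

namespace Cfsg.Agent.DerivedLength

open Subgroup
open scoped commutatorElement

variable {G : Type*} [Group G]

/-- iterate of `⁅·, G⁆` -/
def chainSeq (X : Subgroup G) : ℕ → Subgroup G
  | 0 => X
  | n + 1 => ⁅chainSeq X n, (⊤ : Subgroup G)⁆

lemma chainSeq_normal (X : Subgroup G) [X.Normal] : ∀ n, (chainSeq X n).Normal
  | 0 => inferInstanceAs X.Normal
  | n + 1 => by
    haveI := chainSeq_normal X n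
    exact Subgroup.commutator_normal _ _

lemma chainSeq_comm (X : Subgroup G) : ∀ n, chainSeq ⁅X, (⊤ : Subgroup G)⁆ n = chainSeq X (n + 1)
  | 0 => rfl
  | n + 1 => by simp [chainSeq, chainSeq_comm X n]

lemma chainSeq_mono {X Y : Subgroup G} (h : X ≤ Y) : ∀ n, chainSeq X n ≤ chainSeq Y n
  | 0 => h
  | n + 1 => Subgroup.commutator_mono (chainSeq_mono h n) le_rfl

lemma chainSeq_le_lcs {X : Subgroup G} {a : ℕ} (h : X ≤ (⊤ : Subgroup G).lowerCentralSeries a) :
    ∀ n, chainSeq X n ≤ (⊤ : Subgroup G).lowerCentralSeries (a + n)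
  | 0 => h
  | n + 1 => Subgroup.commutator_mono (chainSeq_le_lcs h n) le_rfl

/-- commutators of a generating set in a normal subgroup -/
lemma comm_le_of_gens {N K : Subgroup G} [K.Normal] {s : Set G} (hN : N ≤ closure s)
    (h : ∀ u ∈ s, ∀ v ∈ s, ⁅u, v⁆ ∈ K) : ⁅N, N⁆ ≤ K := by
  have hq : ∀ u ∈ s, ∀ v ∈ s, Commute (QuotientGroup.mk' K u) (QuotientGroup.mk' K v) := by
    intro u hu v hv
    rw [← commutatorElement_eq_one_iff_commute, ← map_commutatorElement,
      QuotientGroup.mk'_apply, QuotientGroup.eq_one_iff]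
    exact h u hu v hv
  refine Subgroup.commutator_le.mpr fun a ha b hb => ?_
  rw [← QuotientGroup.eq_one_iff (N := K)]
  change QuotientGroup.mk' K ⁅a, b⁆ = 1
  rw [map_commutatorElement, commutatorElement_eq_one_iff_commute]
  have key : ∀ a ∈ closure s, ∀ b ∈ closure s,
      Commute (QuotientGroup.mk' K a) (QuotientGroup.mk' K b) := by
    intro a ha b hb
    induction ha, hb using Subgroup.closure_induction₂ with
    | mem x y hx hy => exact hq x hx y hy
    | one_left y hy => rw [map_one]; exact Commute.one_left _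
    | one_right x hx => rw [map_one]; exact Commute.one_right _
    | mul_left x y z _ _ _ h1 h2 => rw [map_mul]; exact h1.mul_left h2
    | mul_right x y z _ _ _ h1 h2 => rw [map_mul]; exact h1.mul_right h2
    | inv_left x y _ _ h1 => rw [map_inv]; exact h1.inv_left
    | inv_right x y _ _ h1 => rw [map_inv]; exact h1.inv_right
  exact key a (hN ha) b (hN hb)

/-- three subgroup lemma modulo a normal subgroup -/
lemma three_mod {A B C K : Subgroup G} [K.Normal] (h1 : ⁅⁅B, C⁆, A⁆ ≤ K) (h2 : ⁅⁅C, A⁆, B⁆ ≤ K) :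
    ⁅⁅A, B⁆, C⁆ ≤ K := by
  have e : ∀ H : Subgroup G, H ≤ K ↔ H.map (QuotientGroup.mk' K) = ⊥ := by
    intro H
    rw [Subgroup.map_eq_bot_iff, QuotientGroup.ker_mk']
  rw [e] at h1 h2 ⊢
  simp only [Subgroup.map_commutator] at h1 h2 ⊢
  exact Subgroup.commutator_commutator_eq_bot_of_rotate h1 h2

lemma comm_lcs_le : ∀ (a : ℕ) (X : Subgroup G), X.Normal →
    ⁅X, (⊤ : Subgroup G).lowerCentralSeries a⁆ ≤ chainSeq X (a + 1) := by
  intro a
  induction a with
  | zero => intro X _; exact le_rfl
  | succ a ih =>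
    intro X hX
    haveI := chainSeq_normal X (a + 2)
    rw [Subgroup.lowerCentralSeries_succ, Subgroup.commutator_comm]
    apply three_mod
    · rw [Subgroup.commutator_comm (H₁ := (⊤ : Subgroup G)) (H₂ := X)]
      haveI : (⁅X, (⊤ : Subgroup G)⁆).Normal := Subgroup.commutator_normal _ _
      refine (ih _ inferInstance).trans ?_
      rw [chainSeq_comm]
    · exact Subgroup.commutator_mono (ih X hX) le_rfl

lemma le_of_le_comm_top [Group.IsNilpotent G] {X Y : Subgroup G} [Y.Normal]
    (h : X ≤ ⁅X, (⊤ : Subgroup G)⁆ ⊔ Y) : X ≤ Y := by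
  obtain ⟨n, hn⟩ := Subgroup.nilpotent_iff_lowerCentralSeries.mp (inferInstance : Group.IsNilpotent G)
  set π := QuotientGroup.mk' Y
  have hm : ∀ k, X.map π ≤ ((⊤ : Subgroup G).lowerCentralSeries k).map π := by
    intro k
    induction k with
    | zero => exact Subgroup.map_mono le_top
    | succ k ih =>
      have h' := Subgroup.map_mono (f := π) h
      rw [Subgroup.map_sup, Subgroup.map_commutator] at h'
      have hY : Y.map π = ⊥ := by rw [Subgroup.map_eq_bot_iff, QuotientGroup.ker_mk']
      rw [hY, sup_bot_eq] at h'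
      rw [Subgroup.lowerCentralSeries_succ, Subgroup.map_commutator]
      exact h'.trans (Subgroup.commutator_mono ih le_rfl)
  have h2 := hm n
  rw [hn, Subgroup.map_bot, le_bot_iff, Subgroup.map_eq_bot_iff, QuotientGroup.ker_mk'] at h2
  exact h2

lemma eq_bot_of_le_comm_top [Group.IsNilpotent G] {X : Subgroup G}
    (h : X ≤ ⁅X, (⊤ : Subgroup G)⁆) : X = ⊥ :=
  le_bot_iff.mp (le_of_le_comm_top (h.trans le_sup_left))

/-- if the top section of `M` is cyclic, then `M'` is one step deeper -/
lemma comm_self_le_deeper {M : Subgroup G} [M.Normal] {b : ℕ}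
    (hM : M ≤ (⊤ : Subgroup G).lowerCentralSeries b) (w : G)
    (hw : M ≤ closure {w} ⊔ (M ⊓ (⊤ : Subgroup G).lowerCentralSeries (b + 1))) (hwM : w ∈ M) :
    ⁅M, M⁆ ≤ (⊤ : Subgroup G).lowerCentralSeries (2 * b + 2) := by
  let s : Set G := {w} ∪ ((M ⊓ (⊤ : Subgroup G).lowerCentralSeries (b + 1) : Subgroup G) : Set G)
  apply comm_le_of_gens (s := s)
  · rw [Subgroup.closure_union, Subgroup.closure_eq]
    exact hw
  · intro u hu v hv
    have key : ∀ x : G, x ∈ (⊤ : Subgroup G).lowerCentralSeries (b + 1) → ∀ y ∈ M,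
        ⁅x, y⁆ ∈ (⊤ : Subgroup G).lowerCentralSeries (2 * b + 2) := fun x hx y hy => by
      have := Cfsg.Agent.Regular.PolySeq.lcs_commutator_le b (b + 1)
        (Subgroup.commutator_mem_commutator hx (hM hy))
      rwa [show b + 1 + b + 1 = 2 * b + 2 by omega] at this
    rcases hu with rfl | hu
    · rcases hv with rfl | hv
      · rw [commutatorElement_self]; exact one_mem _
      · rw [← commutatorElement_inv]
        exact inv_mem (key v hv.2 u hwM)
    · rcases hv with rfl | hv
      · exact key u hu.2 v hwM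
      · exact key u hu.2 v hv.1

variable {p : ℕ} [hp : Fact p.Prime]

lemma card_mul_le_of_lt (hG : IsPGroup p G) [Finite G] {H K : Subgroup G} (h : H < K) :
    p * Nat.card ↥H ≤ Nat.card ↥K := by
  obtain ⟨i, hi⟩ := (IsPGroup.iff_card).mp (hG.to_subgroup H)
  obtain ⟨j, hj⟩ := (IsPGroup.iff_card).mp (hG.to_subgroup K)
  have hlt : Nat.card ↥H < Nat.card ↥K := by
    refine lt_of_le_of_ne (Subgroup.card_le_of_le h.le) fun e => h.ne ?_
    exact SetLike.coe_injective (Set.eq_of_subset_of_ncard_le h.le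
      (le_of_eq (by rw [← Nat.card_coe_set_eq, ← Nat.card_coe_set_eq]; exact e.symm)) (Set.toFinite _))
  rw [hi, hj] at hlt ⊢
  rw [← pow_succ']
  exact Nat.pow_le_pow_right hp.1.pos ((Nat.pow_lt_pow_iff_right hp.1.one_lt).mp hlt)

variable [Finite G] (hG : IsPGroup p G)
include hG

/-- Hall's bound, and the structure in case of equality. -/
theorem step (N : Subgroup G) [N.Normal] (a : ℕ) (hN : N ≤ (⊤ : Subgroup G).lowerCentralSeries a)
    (hne : ⁅N, N⁆ ≠ ⊥) :
    p ^ (a + 2) * Nat.card ↥⁅N, N⁆ ≤ Nat.card ↥N ∧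
      (¬ p ^ (a + 3) * Nat.card ↥⁅N, N⁆ ≤ Nat.card ↥N →
        ⁅⁅N, N⁆, ⁅N, N⁆⁆ ≤ (⊤ : Subgroup G).lowerCentralSeries (4 * a + 4)) := by
  haveI : Group.IsNilpotent G := hG.isNilpotent
  set D := ⁅N, N⁆ with hD
  haveI hDn : D.Normal := Subgroup.commutator_normal _ _
  let X : ℕ → Subgroup G := fun j => chainSeq N j ⊔ D
  have hFn := chainSeq_normal N
  have hXn : ∀ j, (X j).Normal := fun j => by haveI := hFn j; exact Subgroup.sup_normal _ _
  have hDN : D ≤ N := Subgroup.commutator_le_left N N
  have hF0 : chainSeq N 0 = N := rfl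
  have hFdec : ∀ j, chainSeq N (j + 1) ≤ chainSeq N j := fun j => by
    haveI := hFn j
    exact Subgroup.commutator_le_left _ _
  have hFanti : ∀ i j, i ≤ j → chainSeq N j ≤ chainSeq N i := fun i j h =>
    antitone_nat_of_succ_le hFdec h
  set R := ⁅D, (⊤ : Subgroup G)⁆ with hR
  haveI hRn : R.Normal := Subgroup.commutator_normal _ _
  have hX0 : X 0 = N := sup_eq_left.mpr hDN
  have hXN : ∀ j, X j ≤ N := fun j => sup_le (hFanti 0 j (Nat.zero_le _)) hDN
  have hFR : ∀ j, chainSeq N j ≤ D → chainSeq N (j + 1) ≤ R := fun j h =>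
    Subgroup.commutator_mono h le_rfl
  -- strict decrease
  have hstrict : ∀ j, X j ≠ D → X (j + 1) < X j := by
    intro j hj
    refine lt_of_le_of_ne (sup_le_sup_right (hFdec j) _) fun e => hj ?_
    refine le_antisymm (sup_le ?_ le_rfl) le_sup_right
    exact le_of_le_comm_top (calc chainSeq N j ≤ X j := le_sup_left
      _ = X (j + 1) := e.symm)
  have hchain : ∀ i j, (∀ l, i ≤ l → l < i + j → X l ≠ D) →
      p ^ j * Nat.card ↥(X (i + j)) ≤ Nat.card ↥(X i) := by
    intro i j
    induction j with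
    | zero => intro _; simp
    | succ j ih =>
      intro h
      have h1 := card_mul_le_of_lt hG (hstrict (i + j) (h _ (by omega) (by omega)))
      have h2 := ih (fun l hl hl' => h l hl (by omega))
      calc p ^ (j + 1) * Nat.card ↥(X (i + (j + 1))) = p ^ j * (p * Nat.card ↥(X (i + j + 1))) := by
            rw [pow_succ]; ring_nf
        _ ≤ _ := le_trans (Nat.mul_le_mul_left _ h1) h2
  have hXD : ∀ j, D ≤ X j := fun j => le_sup_right
  have hcardD : ∀ j, Nat.card ↥D ≤ Nat.card ↥(X j) := fun j => Subgroup.card_le_of_le (hXD j)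
  have hX0D : X 0 ≠ D := fun e => hne (eq_bot_of_le_comm_top (by
    have hND : N ≤ D := by rw [← hX0, e]
    calc D ≤ ⁅D, D⁆ := Subgroup.commutator_mono hND hND
      _ ≤ ⁅D, (⊤ : Subgroup G)⁆ := Subgroup.commutator_mono le_rfl le_top))
  have hX1N : X 1 < N := lt_of_lt_of_eq (hstrict 0 hX0D) hX0
  obtain ⟨x, hxN, hx1⟩ := SetLike.exists_of_lt hX1N
  have hX1R : ∀ u ∈ X 1, ∀ v ∈ N, ⁅u, v⁆ ∈ chainSeq N (a + 2) ⊔ R := by
    intro u hu v hv
    haveI := hFn (a + 2)
    haveI : (chainSeq N (a + 2) ⊔ R).Normal := Subgroup.sup_normal _ _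
    have hle : ⁅X 1, N⁆ ≤ chainSeq N (a + 2) ⊔ R := by
      haveI := hXn 1
      rw [Subgroup.commutator_le]
      intro u hu v hv
      haveI := hFn 1
      obtain ⟨f, hf, d, hd, rfl⟩ := Subgroup.mem_sup_of_normal_right.mp hu
      rw [← QuotientGroup.eq_one_iff (N := chainSeq N (a + 2) ⊔ R)]
      change QuotientGroup.mk' (chainSeq N (a + 2) ⊔ R) ⁅f * d, v⁆ = 1
      rw [map_commutatorElement, commutatorElement_eq_one_iff_commute, map_mul]
      have hc : ∀ z : G, ⁅z, v⁆ ∈ chainSeq N (a + 2) ⊔ R →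
          Commute (QuotientGroup.mk' (chainSeq N (a + 2) ⊔ R) z)
            (QuotientGroup.mk' (chainSeq N (a + 2) ⊔ R) v) := fun z hz => by
        rw [← commutatorElement_eq_one_iff_commute, ← map_commutatorElement,
          QuotientGroup.mk'_apply, QuotientGroup.eq_one_iff]
        exact hz
      refine (hc f (le_sup_left (α := Subgroup G) ?_)).mul_left (hc d (le_sup_right (α := Subgroup G) ?_))
      · have := comm_lcs_le a (chainSeq N 1) (hFn 1)
          (Subgroup.commutator_mem_commutator hf (hN hv))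
        rwa [show chainSeq N 1 = ⁅N, (⊤ : Subgroup G)⁆ from rfl, chainSeq_comm] at this
      · exact Subgroup.commutator_mem_commutator hd (Subgroup.mem_top v)
    exact hle (Subgroup.commutator_mem_commutator hu hv)
  let M : Subgroup G := closure {x} ⊔ X 1
  have hMN : M ≤ N := sup_le ((Subgroup.closure_le N).mpr (by simpa using hxN)) (hXN 1)
  have hMlt : X 1 < M := lt_of_le_of_ne le_sup_right fun e => hx1 (by
    rw [e]; exact le_sup_left (α := Subgroup G) (Subgroup.subset_closure rfl))
  -- commutator of N inside a normal K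
  have hgens : ∀ (t : Set G) (K : Subgroup G), K.Normal → N ≤ closure t ⊔ X 1 → t ⊆ N →
      (∀ u ∈ t, ∀ v ∈ t, ⁅u, v⁆ ∈ K) → chainSeq N (a + 2) ⊔ R ≤ K → D ≤ K := by
    intro t K hK hcov htN ht hRK
    apply comm_le_of_gens (s := t ∪ (X 1 : Set G))
    · rw [Subgroup.closure_union, Subgroup.closure_eq]; exact hcov
    · intro u hu v hv
      rcases hu with hu | hu
      · rcases hv with hv | hv
        · exact ht u hu v hv
        · rw [← commutatorElement_inv]
          exact inv_mem (hRK (hX1R v hv u (htN hu)))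
      · rcases hv with hv | hv
        · exact hRK (hX1R u hu v (htN hv))
        · exact hRK (hX1R u hu v (hXN 1 hv))
  by_cases hcyc : M = N
  · -- the top section of `N` is cyclic
    have hnot : ∀ l, l ≤ a + 1 → X l ≠ D := by
      intro l hl e
      have h1 : chainSeq N (a + 2) ≤ R := hFR (a + 1)
        ((hFanti l (a + 1) hl).trans (le_sup_left.trans e.le))
      apply hne
      apply eq_bot_of_le_comm_top
      exact hgens {x} R hRn hcyc.ge (by simpa using hxN)
        (by rintro u rfl v rfl; rw [commutatorElement_self]; exact one_mem _) (sup_le h1 le_rfl)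
    have h1 := hchain 0 (a + 2) (fun l _ h => hnot l (by omega))
    rw [hX0] at h1
    refine ⟨le_trans (Nat.mul_le_mul_left _ (hcardD _)) h1, fun _ => ?_⟩
    have hD2 : D ≤ (⊤ : Subgroup G).lowerCentralSeries (2 * a + 2) := by
      refine comm_self_le_deeper hN x ?_ hxN
      calc N = M := hcyc.symm
        _ ≤ _ := ?_
      refine sup_le le_sup_left (le_sup_of_le_right (le_inf (hXN 1) (sup_le ?_ ?_)))
      · exact chainSeq_le_lcs hN 1
      · exact ((Subgroup.commutator_mono hN hN).trans
          (Cfsg.Agent.Regular.PolySeq.lcs_commutator_le a a)).trans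
          (Subgroup.lowerCentralSeries_antitone _ (by omega))
    refine ((Subgroup.commutator_mono hD2 hD2).trans
      (Cfsg.Agent.Regular.PolySeq.lcs_commutator_le _ _)).trans ?_
    exact Subgroup.lowerCentralSeries_antitone _ (by omega)
  · -- at least two generators
    have hMN' : M < N := lt_of_le_of_ne hMN hcyc
    have hDF : D ≤ chainSeq N (a + 1) :=
      (Subgroup.commutator_mono le_rfl hN).trans (comm_lcs_le a N inferInstance)
    have hnot : ∀ l, l ≤ a → X l ≠ D := by
      intro l hl e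
      apply hne
      apply eq_bot_of_le_comm_top
      exact hDF.trans (hFR a ((hFanti l a hl).trans (le_sup_left.trans e.le)))
    have htwo : p ^ 2 * Nat.card ↥(X 1) ≤ Nat.card ↥N := by
      calc p ^ 2 * Nat.card ↥(X 1) = p * (p * Nat.card ↥(X 1)) := by ring
        _ ≤ p * Nat.card ↥M := Nat.mul_le_mul_left _ (card_mul_le_of_lt hG hMlt)
        _ ≤ _ := card_mul_le_of_lt hG hMN'
    have h1 := hchain 1 a (fun l h1 h2 => hnot l (by omega))
    have hmain : p ^ (a + 2) * Nat.card ↥(X (1 + a)) ≤ Nat.card ↥N := by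
      calc p ^ (a + 2) * Nat.card ↥(X (1 + a)) = p ^ 2 * (p ^ a * Nat.card ↥(X (1 + a))) := by ring
        _ ≤ p ^ 2 * Nat.card ↥(X 1) := Nat.mul_le_mul_left _ h1
        _ ≤ _ := htwo
    refine ⟨le_trans (Nat.mul_le_mul_left _ (hcardD _)) hmain, fun hsmall => ?_⟩
    have hXend : X (1 + a) = D := by
      by_contra hc
      apply hsmall
      have := card_mul_le_of_lt hG (lt_of_le_of_ne (hXD (1 + a)) (Ne.symm hc))
      calc p ^ (a + 3) * Nat.card ↥D = p ^ (a + 2) * (p * Nat.card ↥D) := by ring
        _ ≤ p ^ (a + 2) * Nat.card ↥(X (1 + a)) := Nat.mul_le_mul_left _ this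
        _ ≤ _ := hmain
    obtain ⟨y, hyN, hyM⟩ := SetLike.exists_of_lt hMN'
    have hM' : closure {y} ⊔ M = N := by
      by_contra hc
      apply hsmall
      have l1 : M < closure {y} ⊔ M := lt_of_le_of_ne le_sup_right fun e => hyM (by
        rw [e]; exact le_sup_left (α := Subgroup G) (Subgroup.subset_closure rfl))
      have l2 : closure {y} ⊔ M < N := lt_of_le_of_ne
        (sup_le ((Subgroup.closure_le N).mpr (by simpa using hyN)) hMN) hc
      calc p ^ (a + 3) * Nat.card ↥D ≤ p ^ (a + 3) * Nat.card ↥(X (1 + a)) :=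
            Nat.mul_le_mul_left _ (hcardD _)
        _ = p ^ 3 * (p ^ a * Nat.card ↥(X (1 + a))) := by ring
        _ ≤ p ^ 3 * Nat.card ↥(X 1) := Nat.mul_le_mul_left _ h1
        _ = p * (p * (p * Nat.card ↥(X 1))) := by ring
        _ ≤ p * (p * Nat.card ↥M) :=
            Nat.mul_le_mul_left _ (Nat.mul_le_mul_left _ (card_mul_le_of_lt hG hMlt))
        _ ≤ p * Nat.card ↥(closure {y} ⊔ M : Subgroup G) :=
            Nat.mul_le_mul_left _ (card_mul_le_of_lt hG l1)
        _ ≤ _ := card_mul_le_of_lt hG l2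
    set w := ⁅x, y⁆ with hw
    have hwD : w ∈ D := Subgroup.commutator_mem_commutator hxN hyN
    have hFend : chainSeq N (a + 2) ≤ R := hFR (a + 1) (by
      rw [show a + 1 = 1 + a by omega]; exact le_sup_left.trans hXend.le)
    have hK : (closure {w} ⊔ R).Normal := by
      refine ⟨fun z hz g => ?_⟩
      have hzD : z ∈ D := sup_le ((Subgroup.closure_le D).mpr (by simpa using hwD))
        (Subgroup.commutator_le_left D ⊤) hz
      have hgz : ⁅g, z⁆ ∈ R := by
        rw [hR, Subgroup.commutator_comm]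
        exact Subgroup.commutator_mem_commutator (Subgroup.mem_top g) hzD
      have : g * z * g⁻¹ = ⁅g, z⁆ * z := by rw [commutatorElement_def]; group
      rw [this]
      exact mul_mem (le_sup_right (α := Subgroup G) hgz) hz
    have hDw : D ≤ closure {w} ⊔ R := by
      refine hgens {x, y} _ hK ?_ (by rintro u (rfl | rfl) <;> assumption) ?_
        (sup_le (hFend.trans le_sup_right) le_sup_right)
      · conv_lhs => rw [← hM']
        refine sup_le ?_ (sup_le ?_ le_sup_right)
        · exact le_sup_of_le_left (Subgroup.closure_mono (by simp))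
        · exact le_sup_of_le_left (Subgroup.closure_mono (by simp))
      · have hwK : w ∈ closure {w} ⊔ R :=
          le_sup_left (α := Subgroup G) (Subgroup.subset_closure rfl)
        rintro u (rfl | rfl) v (rfl | rfl)
        · rw [commutatorElement_self]; exact one_mem _
        · exact hwK
        · rw [← commutatorElement_inv]; exact inv_mem hwK
        · rw [commutatorElement_self]; exact one_mem _
    have hDlcs : D ≤ (⊤ : Subgroup G).lowerCentralSeries (2 * a + 1) :=
      ((Subgroup.commutator_mono hN hN).trans (Cfsg.Agent.Regular.PolySeq.lcs_commutator_le a a)).trans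
        (Subgroup.lowerCentralSeries_antitone _ (by omega))
    have := comm_self_le_deeper hDlcs w (hDw.trans (sup_le_sup_left (le_inf
      (Subgroup.commutator_le_left D ⊤) (Subgroup.commutator_mono hDlcs le_rfl)) _)) hwD
    exact this.trans (Subgroup.lowerCentralSeries_antitone _ (by omega))

omit [Finite G] hG in
/-- `G^(j)` lies in `γ_{2^j}` (0-based index `2^j - 1`). -/
lemma derived_le_lcs : ∀ j, derivedSeries G j ≤ (⊤ : Subgroup G).lowerCentralSeries (2 ^ j - 1)
  | 0 => le_top
  | j + 1 => by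
    rw [derivedSeries_succ]
    refine ((Subgroup.commutator_mono (derived_le_lcs j) (derived_le_lcs j)).trans
      (Cfsg.Agent.Regular.PolySeq.lcs_commutator_le _ _)).trans (Subgroup.lowerCentralSeries_antitone _ ?_)
    have : 1 ≤ 2 ^ j := Nat.one_le_two_pow
    rw [pow_succ]; omega

theorem bound {k : ℕ} (hk : derivedSeries G k ≠ ⊥) : ∀ j, j ≤ k → ∀ e, Nat.card ↥(derivedSeries G j) = p ^ e →
    2 ^ k + 2 * (k - j) ≤ e + 2 ^ j + 1 ∧
      (derivedSeries G j ≤ (⊤ : Subgroup G).lowerCentralSeries (2 ^ j) →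
        2 ^ k + 2 * (k - j) + 1 ≤ e + 2 ^ j) := by
  intro j hjk
  induction hd : k - j using Nat.strong_induction_on generalizing j with
  | _ d ih =>
    subst hd
    intro e he
    have hne : ∀ l, l ≤ k → derivedSeries G l ≠ ⊥ := fun l hl h =>
      hk (le_bot_iff.mp (h ▸ derivedSeries_antitone G hl))
    have hpos : ∀ l, l ≤ k → ∀ f, Nat.card ↥(derivedSeries G l) = p ^ f → 1 ≤ f := by
      intro l hl f hf
      by_contra h0
      have : f = 0 := by omega
      subst this
      exact hne l hl (Subgroup.eq_bot_of_card_eq _ (by simpa using hf))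
    rcases eq_or_lt_of_le hjk with rfl | hlt
    · have := hpos j le_rfl e he
      simp only [Nat.sub_self, Nat.mul_zero, Nat.add_zero]
      exact ⟨by omega, fun _ => by omega⟩
    haveI : (derivedSeries G j).Normal := derivedSeries_normal G j
    have hne1 : ⁅derivedSeries G j, derivedSeries G j⁆ ≠ ⊥ := by
      rw [← derivedSeries_succ]; exact hne (j + 1) (by omega)
    have hexp : ∀ (a : ℕ) (e₁ e₂ : ℕ), p ^ a * p ^ e₁ ≤ p ^ e₂ → a + e₁ ≤ e₂ := fun a e₁ e₂ h => by
      rw [← pow_add] at h
      exact (Nat.pow_le_pow_iff_right hp.1.one_lt).mp h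
    obtain ⟨e₁, he₁⟩ := IsPGroup.iff_card.mp (hG.to_subgroup (derivedSeries G (j + 1)))
    have ih1 := ih (k - (j + 1)) (by omega) (j + 1) (by omega) rfl e₁ he₁
    have h2j : 1 ≤ 2 ^ j := Nat.one_le_two_pow
    have hpow : 2 ^ (j + 1) = 2 * 2 ^ j := by rw [pow_succ]; ring
    constructor
    · obtain ⟨hH, hE⟩ := step hG (derivedSeries G j) (2 ^ j - 1) (derived_le_lcs j) hne1
      rw [← derivedSeries_succ, he₁, he] at hH hE
      have hH' := hexp _ _ _ hH
      by_cases hbig : p ^ (2 ^ j - 1 + 3) * p ^ e₁ ≤ p ^ e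
      · have := hexp _ _ _ hbig
        have := ih1.1
        omega
      · have hdeep := hE hbig
        by_cases hj2 : j + 1 = k
        · have := hpos (j + 1) (by omega) e₁ he₁
          subst hj2
          omega
        · obtain ⟨e₂, he₂⟩ := IsPGroup.iff_card.mp (hG.to_subgroup (derivedSeries G (j + 2)))
          have ih2 := ih (k - (j + 2)) (by omega) (j + 2) (by omega) rfl e₂ he₂
          have hd2 := ih2.2 (by
            rw [derivedSeries_succ]
            refine hdeep.trans (Subgroup.lowerCentralSeries_antitone _ ?_)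
            rw [pow_add]; omega)
          haveI : (derivedSeries G (j + 1)).Normal := derivedSeries_normal G (j + 1)
          have hH2 := (step hG (derivedSeries G (j + 1)) (2 ^ (j + 1) - 1) (derived_le_lcs (j + 1))
            (by rw [← derivedSeries_succ]; exact hne (j + 2) (by omega))).1
          rw [← derivedSeries_succ, he₂, he₁] at hH2
          have := hexp _ _ _ hH2
          have hp4 : 2 ^ (j + 2) = 4 * 2 ^ j := by rw [pow_add]; ring
          omega
    · intro hdj
      obtain ⟨hH, -⟩ := step hG (derivedSeries G j) (2 ^ j) hdj hne1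
      rw [← derivedSeries_succ, he₁, he] at hH
      have hH' := hexp _ _ _ hH
      have hd1 := ih1.2 (by
        rw [derivedSeries_succ]
        refine ((Subgroup.commutator_mono hdj hdj).trans
          (Cfsg.Agent.Regular.PolySeq.lcs_commutator_le _ _)).trans
          (Subgroup.lowerCentralSeries_antitone _ ?_)
        omega)
      omega

end Cfsg.Agent.DerivedLength
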